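import Groth.Prelude.Def_SGA7I
import Groth.Agent.S0712
import Groth.Agent.EtpbcB.StrictHensTransport
import Groth.Agent.Etrest.SHPoint

/-!
# Nearby cycles at a smooth point

* `H0const`: `H⁰(X, M)` of a constant sheaf is the group of locally constant functions;
* `connectedSpace_of_H0`: if `H⁰(X, M) ≃ M` for a finite nontrivial group `M`, then `X` is connected;
* `nearby`: for `f : X ⟶ Spec V` (`V` strictly henselian) smooth near a point `x` over the closed point,
  the nearby fibre `Spec Osh ×_V Spec Ω` has the cohomology of a point with coefficients `ℤ/n`, `n`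
  invertible in the residue field (glue over S0712).
-/

set_option autoImplicit false
universe u
open CategoryTheory CategoryTheory.Limits AlgebraicGeometry Opposite IsLocalRing
open scoped TensorProduct

namespace Groth.Agent.Sga7.H747.NearbySmooth

/-- `H⁰(X, M)` is the group of locally constant functions with values in `M`. -/
noncomputable def H0const (X : Scheme.{u}) (M : Type) [AddCommGroup M] :
    EtCoh.H X (EtCoh.const X M) 0 ≃+ LocallyConstant X (ULift.{u + 1} M) :=
  AddEquiv.trans (Sheaf.H.equiv₀ _ (EtCore.topIsTerminal X))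
    (((sheafToPresheaf _ _).mapIso (Groth.Agent.Sga4B.ConstLC.constIso X M)).app
      (op (EtCoh.top X))).addCommGroupIsoToAddEquiv

/-- A topological space on which there are as many locally constant functions with values in a
finite nontrivial set as there are elements of that set is connected. -/
theorem connectedSpace_of_locallyConstant {T : Type*} [TopologicalSpace T] {M : Type*} [Finite M]
    [Nontrivial M] (e : LocallyConstant T M ≃ M) : ConnectedSpace T := by
  classical
  obtain ⟨a, b, hab⟩ := exists_pair_ne M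
  have hne : Nonempty T := by
    by_contra hn
    rw [not_nonempty_iff] at hn
    have h1 : Subsingleton (LocallyConstant T M) := ⟨fun f g => by ext x; exact hn.elim x⟩
    have h2 : Subsingleton M := e.symm.subsingleton
    exact hab (Subsingleton.elim a b)
  have hinj : Function.Injective (fun c : M => e (LocallyConstant.const T c)) := by
    intro c d hcd
    exact DFunLike.congr_fun (e.injective hcd) (Classical.arbitrary T)
  have hs := Finite.surjective_of_injective hinj
  have hpre : PreconnectedSpace T := by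
    rw [preconnectedSpace_iff_clopen]
    intro s hs'
    let f : LocallyConstant T M := (LocallyConstant.ofIsClopen hs').map (fun i => if i = 0 then a else b)
    obtain ⟨c, hc⟩ := hs (e f)
    have hf : LocallyConstant.const T c = f := e.injective hc
    have hval : ∀ x, c = if x ∈ s then a else b := by
      intro x
      have h1 : c = f x := DFunLike.congr_fun hf x
      rw [h1]
      change (if (LocallyConstant.ofIsClopen hs') x = 0 then a else b) = _
      have h2 : (LocallyConstant.ofIsClopen hs') x = 0 ↔ x ∈ s := by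
        have h3 := LocallyConstant.ofIsClopen_fiber_zero hs'
        exact Set.ext_iff.1 h3 x
      simp only [h2]
    by_cases hx : (Classical.arbitrary T) ∈ s
    · right
      ext x
      simp only [Set.mem_univ, iff_true]
      by_contra hxs
      have h1 := hval x
      have h2 := hval (Classical.arbitrary T)
      rw [if_neg hxs] at h1
      rw [if_pos hx] at h2
      exact hab (h2.symm.trans h1)
    · left
      ext x
      simp only [Set.mem_empty_iff_false, iff_false]
      intro hxs
      have h1 := hval x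
      have h2 := hval (Classical.arbitrary T)
      rw [if_pos hxs] at h1
      rw [if_neg hx] at h2
      exact hab (h1.symm.trans h2)
  exact { toNonempty := hne }

/-- If `H⁰(X, M) ≃ M` for a finite nontrivial group `M`, then `X` is connected. -/
theorem connectedSpace_of_H0 (X : Scheme.{u}) (M : Type) [AddCommGroup M] [Finite M] [Nontrivial M]
    (h : Nonempty (EtCoh.H X (EtCoh.const X M) 0 ≃+ M)) : ConnectedSpace X := by
  obtain ⟨e⟩ := h
  exact connectedSpace_of_locallyConstant (M := ULift.{u + 1} M)
    ((H0const X M).symm.toEquiv.trans (e.toEquiv.trans Equiv.ulift.symm))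

theorem exists_specOf_of_eq (R : Type u) [CommRing R] [HenselianLocalRing R]
    [IsSepClosed (ResidueField R)] (s : Spec (CommRingCat.of R)) (hs : s = closedPoint R) :
    ∃ (_ : Algebra ((Spec (CommRingCat.of R)).presheaf.stalk s) R)
      (_ : IsLocalHom (algebraMap ((Spec (CommRingCat.of R)).presheaf.stalk s) R))
      (_ : Hensel.IsStrictHenselization ((Spec (CommRingCat.of R)).presheaf.stalk s) R),
      Hens2.specOf (Spec (CommRingCat.of R)) s R = 𝟙 (Spec (CommRingCat.of R)) := by
  subst hs
  exact Groth.Agent.EtpbcB.StrictHensTransport.exists_specOf_closedPoint R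

theorem specOf_closedPoint (X : Scheme.{u}) (x : X) (R : Type u) [CommRing R] [IsLocalRing R]
    [Algebra (X.presheaf.stalk x) R] [IsLocalHom (algebraMap (X.presheaf.stalk x) R)] :
    Hens2.specOf X x R (closedPoint R) = x := by
  have h1 : (Spec.map (CommRingCat.ofHom (algebraMap (X.presheaf.stalk x) R))) (closedPoint R) =
      closedPoint (X.presheaf.stalk x) := by
    have : IsLocalHom (CommRingCat.ofHom (algebraMap (X.presheaf.stalk x) R)).hom :=
      inferInstanceAs (IsLocalHom (algebraMap (X.presheaf.stalk x) R))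
    exact Spec_closedPoint (R := X.presheaf.stalk x) (S := CommRingCat.of R)
      (f := CommRingCat.ofHom (algebraMap (X.presheaf.stalk x) R))
  have h2 : Hens2.specOf X x R (closedPoint R) = X.fromSpecStalk x
    ((Spec.map (CommRingCat.ofHom (algebraMap (X.presheaf.stalk x) R))) (closedPoint R)) := rfl
  rw [h2, h1]
  exact Scheme.fromSpecStalk_closedPoint

/-- Transport of a strict henselization of the local ring of `X` to an open subscheme. -/
theorem exists_specOf_open {X : Scheme.{u}} (U : X.Opens) (x : X) (hxU : x ∈ U) (R : Type u)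
    [CommRing R] [IsLocalRing R] [Algebra (X.presheaf.stalk x) R]
    [IsLocalHom (algebraMap (X.presheaf.stalk x) R)]
    [Hensel.IsStrictHenselization (X.presheaf.stalk x) R] :
    ∃ (_ : Algebra ((U : Scheme.{u}).presheaf.stalk ⟨x, hxU⟩) R)
      (_ : IsLocalHom (algebraMap ((U : Scheme.{u}).presheaf.stalk ⟨x, hxU⟩) R))
      (_ : Hensel.IsStrictHenselization ((U : Scheme.{u}).presheaf.stalk ⟨x, hxU⟩) R),
      Hens2.specOf (U : Scheme.{u}) ⟨x, hxU⟩ R ≫ U.ι = Hens2.specOf X x R := by
  let i : (U : Scheme.{u}).presheaf.stalk ⟨x, hxU⟩ ≅ X.presheaf.stalk x :=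
    (asIso (U.ι.stalkMap ⟨x, hxU⟩)).symm
  let e : (U : Scheme.{u}).presheaf.stalk ⟨x, hxU⟩ ≃+* X.presheaf.stalk x :=
    i.commRingCatIsoToRingEquiv
  let alg : Algebra ((U : Scheme.{u}).presheaf.stalk ⟨x, hxU⟩) R :=
    ((algebraMap (X.presheaf.stalk x) R).comp e.toRingHom).toAlgebra
  have halg : algebraMap ((U : Scheme.{u}).presheaf.stalk ⟨x, hxU⟩) R =
    (algebraMap (X.presheaf.stalk x) R).comp e.toRingHom := rfl
  have hloc : IsLocalHom (algebraMap ((U : Scheme.{u}).presheaf.stalk ⟨x, hxU⟩) R) := by
    constructor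
    intro a ha
    rw [halg] at ha
    have h1 : IsUnit (e a) := isUnit_of_map_unit (algebraMap (X.presheaf.stalk x) R) _ ha
    exact (MulEquiv.isUnit_map e).1 h1
  have hs : Hensel.IsStrictHenselization ((U : Scheme.{u}).presheaf.stalk ⟨x, hxU⟩) R :=
    Groth.Agent.EtpbcB.StrictHensTransport.of_ringEquiv _ (X.presheaf.stalk x) R e rfl
  refine ⟨alg, hloc, hs, ?_⟩
  have h1 : CommRingCat.ofHom (algebraMap ((U : Scheme.{u}).presheaf.stalk ⟨x, hxU⟩) R) =
    i.hom ≫ CommRingCat.ofHom (algebraMap (X.presheaf.stalk x) R) := rfl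
  rw [Hens2.specOf, h1, Spec.map_comp, Category.assoc, Category.assoc, Hens2.specOf]
  congr 1
  rw [← U.fromSpecStalkOfMem_ι x hxU, Scheme.Opens.fromSpecStalkOfMem, Category.assoc]
  rfl

section

variable {V Ω : Type u} [CommRing V] [HenselianLocalRing V]
  [IsSepClosed (ResidueField V)] [Field Ω] [IsSepClosed Ω] [Algebra V Ω]
  {X : Scheme.{u}} (f : X ⟶ Spec (CommRingCat.of V))
  (x : X) (hx : f.base x = closedPoint V) (U : X.Opens) (hxU : x ∈ U) [Smooth (U.ι ≫ f)]
  (Osh : Type u) [CommRing Osh] [IsLocalRing Osh] [Algebra (X.presheaf.stalk x) Osh]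
  [IsLocalHom (algebraMap (X.presheaf.stalk x) Osh)]
  [Hensel.IsStrictHenselization (X.presheaf.stalk x) Osh]

include hx hxU in
theorem nearby (n : ℕ) (hn : (n : ResidueField V) ≠ 0) (q : ℕ) :
    (0 < q → Subsingleton (EtCoh.H (SGA7.nearbyFibre f x Osh Ω)
      (EtCoh.const (SGA7.nearbyFibre f x Osh Ω) (ZMod n)) q)) ∧
    Nonempty (EtCoh.H (SGA7.nearbyFibre f x Osh Ω)
      (EtCoh.const (SGA7.nearbyFibre f x Osh Ω) (ZMod n)) 0 ≃+ ZMod n) := by
  obtain ⟨algU, locU, shU, hU⟩ := exists_specOf_open U x hxU Osh
  let g : (U : Scheme.{u}) ⟶ Spec (CommRingCat.of V) := U.ι ≫ f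
  let y : (U : Scheme.{u}) := ⟨x, hxU⟩
  have hgy : g.base y = closedPoint V := hx
  obtain ⟨algV, locV, shV, hV⟩ := exists_specOf_of_eq V (g.base y) hgy
  let t : Spec (CommRingCat.of Osh) ⟶ Spec (CommRingCat.of V) := Hens2.specOf X x Osh ≫ f
  let algO : Algebra V Osh := (Spec.preimage t).hom.toAlgebra
  have ht : Spec.map (CommRingCat.ofHom (algebraMap V Osh)) = t := Spec.map_preimage t
  have hloc : IsLocalHom (algebraMap V Osh) := by
    rw [isLocalHom_iff_comap_closedPoint]
    have h1 : (Spec.map (CommRingCat.ofHom (algebraMap V Osh))) (closedPoint Osh) = closedPoint V := by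
      rw [ht]
      change f (Hens2.specOf X x Osh (closedPoint Osh)) = _
      rw [specOf_closedPoint X x Osh]
      exact hx
    exact h1
  have hc : (algebraMap V Osh).comp (algebraMap ((Spec (CommRingCat.of V)).presheaf.stalk (g.base y)) V) =
      (algebraMap ((U : Scheme.{u}).presheaf.stalk y) Osh).comp (g.stalkMap y).hom := by
    apply Groth.Agent.Etrest.SHBase.ringHom_eq_of_spec
    rw [← Groth.Agent.Etrest.SHBase.spec_comp_specOf, hV, Category.comp_id, ht,
      CommRingCat.ofHom_comp, Spec.map_comp, Category.assoc]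
    have h1 := Scheme.SpecMap_stalkMap_fromSpecStalk g (x := y)
    have h2 : Spec.map (CommRingCat.ofHom (g.stalkMap y).hom) = Spec.map (g.stalkMap y) := rfl
    rw [h2, h1, ← Category.assoc]
    change Hens2.specOf X x Osh ≫ f = Hens2.specOf (U : Scheme.{u}) ⟨x, hxU⟩ Osh ≫ U.ι ≫ f
    rw [← Category.assoc, hU]
  have hnV : IsUnit (n : V) := by
    rw [← residue_ne_zero_iff_isUnit, map_natCast]
    exact hn
  have hnU : ((n : ℕ) : (U : Scheme.{u}).residueField y) ≠ 0 := by
    have h1 := hnV.map (algebraMap V Osh)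
    rw [map_natCast, ← map_natCast (algebraMap ((U : Scheme.{u}).presheaf.stalk y) Osh)] at h1
    have h2 := isUnit_of_map_unit (algebraMap ((U : Scheme.{u}).presheaf.stalk y) Osh) _ h1
    have h3 := h2.map (residue ((U : Scheme.{u}).presheaf.stalk y))
    rw [map_natCast] at h3
    exact h3.ne_zero
  have hsm : Smooth g := inferInstanceAs (Smooth (U.ι ≫ f))
  have main := fun q => Groth.Agent.S0712.result g y V Osh hc Ω n hnU q
  let W : Scheme.{u} := Spec (CommRingCat.of (Osh ⊗[V] Ω))
  let P : Scheme.{u} := SGA7.nearbyFibre f x Osh Ω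
  have hW : IsPullback (Spec.map (CommRingCat.ofHom
        (Algebra.TensorProduct.includeLeftRingHom (R := V) (A := Osh) (B := Ω))))
      (Spec.map (CommRingCat.ofHom
        (Algebra.TensorProduct.includeRight (R := V) (A := Osh) (B := Ω)).toRingHom))
      (Spec.map (CommRingCat.ofHom (algebraMap V Osh)))
      (Spec.map (CommRingCat.ofHom (algebraMap V Ω))) :=
    isPullback_SpecMap_of_isPushout _ _ _ _ (CommRingCat.isPushout_tensorProduct V Osh Ω)
  have hP : IsPullback (pullback.fst (Spec.map (CommRingCat.ofHom (algebraMap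
      (X.presheaf.stalk x) Osh)) ≫ X.fromSpecStalk x ≫ f)
        (Spec.map (CommRingCat.ofHom (algebraMap V Ω))))
      (pullback.snd _ _) (Spec.map (CommRingCat.ofHom (algebraMap V Osh)))
      (Spec.map (CommRingCat.ofHom (algebraMap V Ω))) := by
    have h1 := IsPullback.of_hasPullback (Spec.map (CommRingCat.ofHom (algebraMap
      (X.presheaf.stalk x) Osh)) ≫ X.fromSpecStalk x ≫ f)
        (Spec.map (CommRingCat.ofHom (algebraMap V Ω)))
    have h2 : Spec.map (CommRingCat.ofHom (algebraMap (X.presheaf.stalk x) Osh)) ≫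
        X.fromSpecStalk x ≫ f = Spec.map (CommRingCat.ofHom (algebraMap V Osh)) := by
      rw [ht, ← Category.assoc]
    exact h2 ▸ h1
  let w : P ≅ W := hP.isoIsPullback _ _ hW
  have k : ∀ q, Nonempty (EtCoh.H W (EtCoh.const W (ZMod n)) q ≃+
      EtCoh.H P (EtCoh.const P (ZMod n)) q) := fun q =>
    ⟨(Groth.Agent.Etrest.IsoInv.HIso w.hom (EtCoh.const W (ZMod n)) q).trans
      (Groth.Agent.Etrest.IsoInv.HCongr (EtCore.pullConst w.hom (ZMod n)) q)⟩
  refine ⟨fun hq => ?_, ?_⟩
  · obtain ⟨e⟩ := k q
    have h1 := (main q).1 hq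
    exact e.symm.toEquiv.subsingleton
  · obtain ⟨e⟩ := k 0
    obtain ⟨e'⟩ := (main q).2
    exact ⟨e.symm.trans e'⟩

end

end Groth.Agent.Sga7.H747.NearbySmooth
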